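import Groth.Agent.KoszAtLib.Ring
import Groth.Agent.S8652
import Mathlib

/-!
# Morphisms which are Koszul at every point
-/

set_option autoImplicit false

universe u

open CategoryTheory CategoryTheory.Limits AlgebraicGeometry KRLib

namespace KoszAtLib

/-- Morphisms which are affine-locally lci. -/
def LCIMor : MorphismProperty Scheme.{u} :=
  affineLocally LCIHom

instance : HasRingHomProperty LCIMor.{u} LCIHom :=
  ⟨lciHom_isLocal, rfl⟩

theorem isRegularImmersion_specMap {P B : CommRingCat.{u}} (φ : P ⟶ B) (hφ : Function.Surjective φ.hom)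
    (h : LocKR (RingHom.ker φ.hom)) : RegImm.IsRegularImmersion .koszul (Spec.map φ) := by
  haveI hcl : IsClosedImmersion (Spec.map φ) := IsClosedImmersion.spec_of_surjective φ hφ
  refine ⟨inferInstance, fun z => (isRegularImmersionAt_koszul_iff _ z).2 ?_⟩
  have happ : (Spec.map φ).app ⊤ = (Scheme.ΓSpecIso P).hom ≫ φ ≫ (Scheme.ΓSpecIso B).inv := by
    rw [Scheme.ΓSpecIso_inv_naturality, ← Category.assoc, Iso.hom_inv_id, Category.id_comp]
  have hinv : Function.Bijective (Scheme.ΓSpecIso B).inv.hom := ConcreteCategory.bijective_of_isIso _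
  refine exists_goodChart_of_locKR (isAffineOpen_top _) (isAffineOpen_top _) ?_ ?_ z trivial
  · rw [happ]
    exact (hinv.2.comp hφ).comp (ConcreteCategory.bijective_of_isIso (Scheme.ΓSpecIso P).hom).2
  · rw [happ]
    change LocKR (RingHom.ker (((Scheme.ΓSpecIso B).inv.hom.comp φ.hom).comp
      (Scheme.ΓSpecIso P).commRingCatIsoToRingEquiv.toRingHom))
    refine locKR_ker_comp_equiv _ _ ?_
    rwa [RingHom.ker_comp_of_injective _ hinv.1]

theorem isKoszulAt_of_lciHom {X S : Scheme.{u}} (f : X ⟶ S) {U : X.Opens} (hU : IsAffineOpen U) {V : S.Opens}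
    (hV : IsAffineOpen V) (e : U ≤ f ⁻¹ᵁ V) (h : LCIHom (f.appLE V U e).hom) (x : X) (hx : x ∈ U) :
    Synt.IsKoszulAt f x := by
  letI := (f.appLE V U e).hom.toAlgebra
  obtain ⟨hft, n, φ, hφ, hk⟩ := h
  let P := CommRingCat.of (MvPolynomial (Fin n) Γ(S, V))
  let φ' : P ⟶ Γ(X, U) := CommRingCat.ofHom φ.toRingHom
  let ιP : Γ(S, V) ⟶ P := CommRingCat.ofHom (algebraMap Γ(S, V) (MvPolynomial (Fin n) Γ(S, V)))
  let i : (U : Scheme.{u}) ⟶ Spec P := hU.isoSpec.hom ≫ Spec.map φ'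
  let π : Spec P ⟶ S := Spec.map ιP ≫ hV.fromSpec
  have hsm : Smooth (Spec.map ιP) :=
    (HasRingHomProperty.Spec_iff (P := @Smooth)).2 (RingHom.smooth_algebraMap.2 (⟨inferInstance, inferInstance⟩ : Algebra.Smooth Γ(S, V) (MvPolynomial (Fin n) Γ(S, V))))
  have hπ : Smooth π := inferInstanceAs (Smooth (Spec.map ιP ≫ hV.fromSpec))
  have hcomm : i ≫ π = U.ι ≫ f := by
    have h1 : ιP ≫ φ' = f.appLE V U e := CommRingCat.hom_ext φ.comp_algebraMap
    show (hU.isoSpec.hom ≫ Spec.map φ') ≫ Spec.map ιP ≫ hV.fromSpec = _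
    rw [Category.assoc, ← Spec.map_comp_assoc, h1, IsAffineOpen.SpecMap_appLE_fromSpec f hV hU e,
      ← IsAffineOpen.isoSpec_hom_fromSpec hU, Category.assoc]
  have hreg := isRegularImmersion_specMap φ' hφ ((locKR_iff _).2 hk)
  have hi : RegImm.IsRegularImmersion .koszul i :=
    Groth.Agent.S8652.result (Spec.map φ') (𝟙 _) i hU.isoSpec.hom
      (IsPullback.of_horiz_isIso ⟨by simp [i]⟩) hreg
  haveI : IsImmersion i := hi.1
  haveI : LocallyOfFiniteType (U.ι ≫ f) := by
    haveI : LocallyOfFiniteType i := by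
      haveI : IsClosedImmersion (Spec.map φ') := IsClosedImmersion.spec_of_surjective φ' hφ
      exact inferInstanceAs (LocallyOfFiniteType (hU.isoSpec.hom ≫ Spec.map φ'))
    rw [← hcomm]; infer_instance
  exact ⟨U, Spec P, i, π, hx, inferInstance, hi, hπ, hcomm⟩

theorem lciMor_of_regularImmersion_smooth {U P S : Scheme.{u}} (i : U ⟶ P) (π : P ⟶ S)
    (hi : RegImm.IsRegularImmersion .koszul i) [Smooth π] : LCIMor (i ≫ π) := by
  rw [HasRingHomProperty.iff_exists_appLE (P := LCIMor) lciHom_stableUnderCompositionSource]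
  intro x
  obtain ⟨V, hV, hxV, -⟩ := exists_isAffineOpen_mem_and_subset (x := π (i x)) (U := ⊤) trivial
  obtain ⟨W, hW, hxW, hWV⟩ := exists_isAffineOpen_mem_and_subset (x := i x) (U := π ⁻¹ᵁ V) hxV
  obtain ⟨C, hxC, hC⟩ := (isRegularImmersionAt_koszul_iff i x).1 (hi.2 x)
  obtain ⟨g, g', eg, hmem⟩ := exists_basicOpen_le_affine_inter hC.isAffine hW (i x) ⟨hxC, hxW⟩
  have hG := hC.basicOpen g
  have hle : P.basicOpen g ≤ π ⁻¹ᵁ V := eg ▸ (P.basicOpen_le g').trans hWV
  refine ⟨⟨V, hV⟩, ⟨i ⁻¹ᵁ P.basicOpen g, hG.isAffine_pre⟩, hmem, ?_, ?_⟩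
  · exact (i.preimage_mono hle).trans_eq (Scheme.Hom.comp_preimage i π V).symm
  rw [← Scheme.Hom.appLE_comp_appLE i π V (P.basicOpen g) (i ⁻¹ᵁ P.basicOpen g) hle le_rfl,
    CommRingCat.hom_comp]
  have hs : Function.Surjective (i.appLE (P.basicOpen g) (i ⁻¹ᵁ P.basicOpen g) le_rfl).hom := by
    rw [← Scheme.Hom.app_eq_appLE]; exact hG.surjective
  refine LCIHom.comp ?_ ?_
  · letI := (π.appLE V (P.basicOpen g) hle).hom.toAlgebra
    haveI : Algebra.Smooth Γ(S, V) Γ(P, P.basicOpen g) :=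
      HasRingHomProperty.appLE (P := @Smooth) π inferInstance ⟨V, hV⟩ ⟨_, hG.isAffine⟩ hle
    exact isLCI_of_smooth _ _
  · letI := (i.appLE (P.basicOpen g) (i ⁻¹ᵁ P.basicOpen g) le_rfl).hom.toAlgebra
    refine isLCI_of_surjective hs ?_
    have hk := hG.locKR
    rw [Scheme.Hom.app_eq_appLE] at hk
    exact hk

/-- Koszul at every point is the same as affine-locally lci. -/
theorem forall_isKoszulAt_iff {X S : Scheme.{u}} (f : X ⟶ S) :
    (∀ x, Synt.IsKoszulAt f x) ↔ LCIMor f := by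
  constructor
  · intro h
    choose U P i π hxU hft hi hπ hc using h
    refine IsZariskiLocalAtSource.of_iSup_eq_top (P := LCIMor) U ?_ fun x => ?_
    · exact top_le_iff.1 fun x _ => TopologicalSpace.Opens.mem_iSup.2 ⟨x, hxU x⟩
    · rw [← hc x]
      haveI := hπ x
      exact lciMor_of_regularImmersion_smooth (i x) (π x) (hi x)
  · intro h x
    rw [HasRingHomProperty.iff_exists_appLE (P := LCIMor) lciHom_stableUnderCompositionSource] at h
    obtain ⟨V, U, hx, e, hl⟩ := h x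
    exact isKoszulAt_of_lciHom f U.2 V.2 e hl x hx

end KoszAtLib
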