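import Groth.Agent.KoszAtLib.Mor
import Mathlib

/-!
# Basic properties of morphisms which are Koszul at every point
-/

set_option autoImplicit false

universe u

open CategoryTheory CategoryTheory.Limits AlgebraicGeometry KRLib

namespace KoszAtLib

instance : LCIMor.{u}.IsStableUnderComposition :=
  HasRingHomProperty.stableUnderComposition (Q := LCIHom) fun _ _ _ _ _ _ _ _ h h' => h.comp h'

theorem lciMor_of_regularImmersion {U P : Scheme.{u}} (i : U ⟶ P) (hi : RegImm.IsRegularImmersion .koszul i) :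
    LCIMor i := by
  simpa using lciMor_of_regularImmersion_smooth i (𝟙 P) hi

theorem lciMor_of_smooth {X S : Scheme.{u}} (f : X ⟶ S) [Smooth f] : LCIMor f := by
  rw [HasRingHomProperty.iff_appLE (P := LCIMor)]
  intro V U e
  letI := (f.appLE V.1 U.1 e).hom.toAlgebra
  haveI : Algebra.Smooth Γ(S, V.1) Γ(X, U.1) := HasRingHomProperty.appLE (P := @Smooth) f inferInstance V U e
  exact isLCI_of_smooth _ _

/-- An immersion of an lci scheme into a smooth one is a Koszul-regular immersion. -/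
theorem koszul_of_immersion_smooth {X Y Z : Scheme.{u}} (i : X ⟶ Z) (p : Z ⟶ Y) [Smooth p] [IsImmersion i]
    (h : LCIMor (i ≫ p)) : RegImm.IsRegularImmersion .koszul i := by
  refine ⟨inferInstance, fun x => (isRegularImmersionAt_koszul_iff i x).2 ?_⟩
  obtain ⟨V, hV, hxV, -⟩ := exists_isAffineOpen_mem_and_subset (x := p (i x)) (U := ⊤) trivial
  obtain ⟨W, hW, hxW, hWV⟩ := exists_isAffineOpen_mem_and_subset (x := i x)
    (U := p ⁻¹ᵁ V ⊓ i.coborderRange) ⟨hxV, subset_coborder ⟨x, rfl⟩⟩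
  have hWp : W ≤ p ⁻¹ᵁ V := le_trans hWV inf_le_left
  obtain ⟨hWX, hs⟩ := data_of_le_coborderRange i hW (le_trans hWV inf_le_right)
  refine exists_goodChart_of_locKR hW hWX hs ?_ x hxW
  have e : i ⁻¹ᵁ W ≤ (i ≫ p) ⁻¹ᵁ V := (i.preimage_mono hWp).trans_eq (Scheme.Hom.comp_preimage i p V).symm
  have hl := HasRingHomProperty.appLE (P := LCIMor) (i ≫ p) h ⟨V, hV⟩ ⟨i ⁻¹ᵁ W, hWX⟩ e
  rw [← Scheme.Hom.appLE_comp_appLE i p V W (i ⁻¹ᵁ W) hWp le_rfl, CommRingCat.hom_comp] at hl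
  letI := (p.appLE V W hWp).hom.toAlgebra
  haveI : Algebra.Smooth Γ(Y, V) Γ(Z, W) := HasRingHomProperty.appLE (P := @Smooth) p inferInstance ⟨V, hV⟩ ⟨W, hW⟩ hWp
  letI := ((i.appLE W (i ⁻¹ᵁ W) le_rfl).hom.comp (p.appLE V W hWp).hom).toAlgebra
  let σ : Γ(Z, W) →ₐ[Γ(Y, V)] Γ(X, i ⁻¹ᵁ W) :=
    { (i.appLE W (i ⁻¹ᵁ W) le_rfl).hom with commutes' := fun _ => rfl }
  have hσ : Function.Surjective σ := by
    show Function.Surjective (i.appLE W (i ⁻¹ᵁ W) le_rfl).hom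
    rw [← Scheme.Hom.app_eq_appLE]; exact hs
  rw [Scheme.Hom.app_eq_appLE]
  exact locKR_ker_of_smooth σ hσ hl

theorem koszul_of_regular {Z X : Scheme.{u}} (i : Z ⟶ X) (hi : RegImm.IsRegularImmersion .regular i) :
    RegImm.IsRegularImmersion .koszul i := by
  refine ⟨hi.1, fun z => ?_⟩
  obtain ⟨U, hz, hcl, rs, hrs, hker⟩ := hi.2 z
  refine ⟨U, hz, hcl, List.ofFn rs.get, isKoszulRegularSeq_of_isExactK _
    (isExactK_of_isWeaklyRegular rs (hrs : RingTheory.Sequence.IsRegular Γ(X, U.1) rs).toIsWeaklyRegular), ?_⟩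
  rwa [List.ofFn_get]

/-- Flat base change. -/
theorem lciMor_baseChange {X Y X' Y' : Scheme.{u}} (f : X ⟶ Y) (g : Y' ⟶ Y) [Flat g]
    (f' : X' ⟶ Y') (g' : X' ⟶ X) (hsq : IsPullback g' f' f g) (hf : LCIMor f) : LCIMor f' := by
  rw [HasRingHomProperty.iff_exists_appLE (P := LCIMor) lciHom_stableUnderCompositionSource]
  intro x
  obtain ⟨V, hV, hxV, -⟩ := exists_isAffineOpen_mem_and_subset (x := f (g' x)) (U := ⊤) trivial
  obtain ⟨U, hU, hxU, hUV⟩ := exists_isAffineOpen_mem_and_subset (x := g' x) (U := f ⁻¹ᵁ V) hxV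
  have hxV' : g (f' x) ∈ V := by rw [← Scheme.Hom.comp_apply, ← hsq.w, Scheme.Hom.comp_apply]; exact hxV
  obtain ⟨V', hV', hxV'', hV'V⟩ := exists_isAffineOpen_mem_and_subset (x := f' x) (U := g ⁻¹ᵁ V) hxV'
  let W : X'.Opens := g' ⁻¹ᵁ U ⊓ f' ⁻¹ᵁ V'
  have hW : IsAffineOpen W := by
    have : IsAffine _ := hU
    have : IsAffine _ := hV
    have : IsAffine _ := hV'
    exact .of_isIso (Scheme.Hom.isPullback_resLE hsq hV'V hUV (rfl : W = _)).isoPullback.hom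
  refine ⟨⟨V', hV'⟩, ⟨W, hW⟩, ⟨hxU, hxV''⟩, inf_le_right, ?_⟩
  have hl := HasRingHomProperty.appLE (P := LCIMor) f hf ⟨V, hV⟩ ⟨U, hU⟩ hUV
  have hpo := (isIso_pushoutSection_iff hsq hV'V hUV (rfl : W = _)).mp
    (isIso_pushoutSection_of_isAffineOpen hsq hV'V hUV (rfl : W = _) hV hV' hU)
  algebraize [(f.appLE V U hUV).hom, (g.appLE V V' hV'V).hom,
    (g'.appLE U W inf_le_left).hom, (f'.appLE V' W inf_le_right).hom,
    ((g'.appLE U W inf_le_left).hom.comp (f.appLE V U hUV).hom)]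
  haveI : IsScalarTower Γ(Y, V) Γ(Y', V') Γ(X', W) :=
    IsScalarTower.of_algebraMap_eq' (congrArg CommRingCat.Hom.hom hpo.w)
  haveI : Module.Flat Γ(Y, V) Γ(Y', V') := g.flat_appLE hV hV' hV'V
  haveI h0 : Algebra.IsPushout Γ(Y, V) Γ(X, U) Γ(Y', V') Γ(X', W) :=
    CommRingCat.isPushout_iff_isPushout.mp hpo
  haveI : Algebra.IsPushout Γ(Y, V) Γ(Y', V') Γ(X, U) Γ(X', W) := h0.symm
  exact isLCI_of_algEquiv (Algebra.IsPushout.equiv Γ(Y, V) Γ(Y', V') Γ(X, U) Γ(X', W))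
    (isLCI_baseChange hl)

/-- Descent along faithfully flat quasi-compact morphisms. -/
theorem lciMor_descent {X Y X' Y' : Scheme.{u}} (f : X ⟶ Y) (g : Y' ⟶ Y) [Flat g] [Surjective g] [QuasiCompact g]
    (f' : X' ⟶ Y') (g' : X' ⟶ X) (hsq : IsPullback g' f' f g) (hf' : LCIMor f') : LCIMor f := by
  rw [HasRingHomProperty.iff_appLE (P := LCIMor)]
  rintro ⟨V, hV⟩ ⟨U, hU⟩ hUV
  obtain ⟨t, htfin, htcov⟩ := (isCompact_iff_finite_and_eq_biUnion_affineOpens (U := g ⁻¹ᵁ V)).mp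
    (QuasiCompact.isCompact_preimage (f := g) V V.isOpen hV.isCompact)
  have : Finite t := htfin
  have hWV : ∀ W : t, W.1.1 ≤ g ⁻¹ᵁ V := fun W => by
    rw [htcov]; exact le_iSup₂_of_le W.1 W.2 le_rfl
  letI := (f.appLE V U hUV).hom.toAlgebra
  letI : ∀ W : t, Algebra Γ(Y, V) Γ(Y', W.1.1) := fun W => (g.appLE V W.1.1 (hWV W)).hom.toAlgebra
  haveI : ∀ W : t, Module.Flat Γ(Y, V) Γ(Y', W.1.1) := fun W => g.flat_appLE hV W.1.2 (hWV W)
  refine isLCI_of_jointly (fun W : t => Γ(Y', W.1.1)) ?_ ?_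
  · intro p
    obtain ⟨s, hs⟩ := ‹Surjective g›.surj (hV.fromSpec p)
    have hsW : s ∈ g ⁻¹ᵁ V := by
      show g s ∈ V
      rw [hs, ← SetLike.mem_coe, ← hV.range_fromSpec]
      exact ⟨p, rfl⟩
    rw [htcov] at hsW
    simp only [TopologicalSpace.Opens.mem_iSup] at hsW
    obtain ⟨W, hWt, hsW⟩ := hsW
    obtain ⟨q, hq⟩ : ∃ q, W.2.fromSpec q = s := by
      rw [← Set.mem_range, W.2.range_fromSpec]; exact hsW
    refine ⟨⟨W, hWt⟩, q, hV.fromSpec.isOpenEmbedding.injective ?_⟩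
    have h2 := congrArg (fun φ : Spec Γ(Y', W.1) ⟶ Y => φ q)
      (IsAffineOpen.SpecMap_appLE_fromSpec g hV W.2 (hWV ⟨W, hWt⟩))
    simp only [Scheme.Hom.comp_apply] at h2
    rw [hq, hs] at h2
    exact h2
  rintro ⟨⟨W₀, hW₀⟩, hWt⟩
  have hW₀V : W₀ ≤ g ⁻¹ᵁ V := hWV ⟨⟨W₀, hW₀⟩, hWt⟩
  let X₀ : X'.Opens := g' ⁻¹ᵁ U ⊓ f' ⁻¹ᵁ W₀
  have hX₀ : IsAffineOpen X₀ := by
    have : IsAffine _ := hU
    have : IsAffine _ := hV
    have : IsAffine _ := hW₀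
    exact .of_isIso (Scheme.Hom.isPullback_resLE hsq hW₀V hUV (rfl : X₀ = _)).isoPullback.hom
  have hl := HasRingHomProperty.appLE (P := LCIMor) f' hf' ⟨W₀, hW₀⟩ ⟨X₀, hX₀⟩ inf_le_right
  have hpo := (isIso_pushoutSection_iff hsq hW₀V hUV (rfl : X₀ = _)).mp
    (isIso_pushoutSection_of_isAffineOpen hsq hW₀V hUV (rfl : X₀ = _) hV hW₀ hU)
  algebraize [(g.appLE V W₀ hW₀V).hom, (g'.appLE U X₀ inf_le_left).hom, (f'.appLE W₀ X₀ inf_le_right).hom,
    ((g'.appLE U X₀ inf_le_left).hom.comp (f.appLE V U hUV).hom)]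
  haveI : IsScalarTower Γ(Y, V) Γ(Y', W₀) Γ(X', X₀) :=
    IsScalarTower.of_algebraMap_eq' (congrArg CommRingCat.Hom.hom hpo.w)
  haveI h0 : Algebra.IsPushout Γ(Y, V) Γ(X, U) Γ(Y', W₀) Γ(X', X₀) :=
    CommRingCat.isPushout_iff_isPushout.mp hpo
  haveI : Algebra.IsPushout Γ(Y, V) Γ(Y', W₀) Γ(X, U) Γ(X', X₀) := h0.symm
  exact isLCI_of_algEquiv (Algebra.IsPushout.equiv Γ(Y, V) Γ(Y', W₀) Γ(X, U) Γ(X', X₀)).symm hl

/-- Syntomic morphisms are the flat lci morphisms. -/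
theorem isSyntomicMor_iff_flat_lciMor {X S : Scheme.{u}} (f : X ⟶ S) :
    Synt.IsSyntomicMor f ↔ Flat f ∧ LCIMor f := by
  rw [TransLib.isSyntomicMor_iff_forall, HasRingHomProperty.iff_appLE (P := LCIMor),
    HasRingHomProperty.iff_appLE (P := @Flat)]
  constructor
  · intro h
    refine ⟨fun V U e => (h U V e).1, fun V U e => ?_⟩
    letI := (f.appLE V.1 U.1 e).hom.toAlgebra
    exact TransLib.isLCI_of_isSyntomic (h U V e)
  · intro h U V e
    letI := (f.appLE V.1 U.1 e).hom.toAlgebra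
    exact TransLib.isSyntomic_of_flat_isLCI (h.1 V U e) (h.2 V U e)

end KoszAtLib
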