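import Groth.Agent.KoszAtLib.Ring
import Groth.Agent.TransLib.SyntApps
import Groth.Agent.TransLib.Noether
import Groth.Agent.KRLib.ImmFlat
import Mathlib

/-!
# Descent of lci ring maps along syntomic covers of the target
-/

set_option autoImplicit false

universe u

open TensorProduct MvPolynomial

namespace KoszAtLib

open KRLib KoszDetLib

theorem le_of_isRelGCI {R : Type u} [CommRing R] {n c : ℕ} {F : Fin c → MvPolynomial (Fin n) R}
    (h : Synt.IsRelGCI R n c F) (p : Ideal (MvPolynomial (Fin n) R)) [p.IsPrime]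
    (hp : Ideal.span (Set.range F) ≤ p) : c ≤ n := by
  let ψ : Synt.RelGCIRing R n c F →ₐ[R] p.ResidueField :=
    Ideal.Quotient.liftₐ _ (IsScalarTower.toAlgHom R (MvPolynomial (Fin n) R) p.ResidueField)
      fun a ha => Ideal.algebraMap_residueField_eq_zero.2 (hp ha)
  haveI : p.LiesOver (p.under R) := ⟨rfl⟩
  let χ : (p.under R).ResidueField →ₐ[R] p.ResidueField :=
    Ideal.ResidueField.mapₐ (p.under R) p (Algebra.ofId R _) rfl
  let τ : (p.under R).Fiber (Synt.RelGCIRing R n c F) →ₐ[R] p.ResidueField :=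
    Algebra.TensorProduct.lift χ ψ fun _ _ => Commute.all _ _
  haveI : Nontrivial ((⟨p.under R, inferInstance⟩ : PrimeSpectrum R).asIdeal.Fiber (Synt.RelGCIRing R n c F)) :=
    RingHom.domain_nontrivial τ.toRingHom
  exact (h ⟨p.under R, inferInstance⟩ inferInstance).1

/-- The extension of `I` to a lifted relative complete intersection is Koszul-regular. -/
theorem locKR_map_relGCI {A P : Type u} [CommRing A] [CommRing P] [Algebra A P] [Algebra.Smooth A P] {n c : ℕ}
    (F : Fin c → MvPolynomial (Fin n) P) (hF : Synt.IsRelGCI P n c F) (I : Ideal P)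
    (hlci : LCI.IsLCI A (Synt.RelGCIRing P n c F ⧸ I.map (algebraMap P (Synt.RelGCIRing P n c F)))) :
    LocKR (I.map (algebraMap P (Synt.RelGCIRing P n c F))) := by
  haveI : Algebra.Smooth P (MvPolynomial (Fin n) P) := ⟨inferInstance, inferInstance⟩
  haveI : Algebra.Smooth A (MvPolynomial (Fin n) P) := Algebra.Smooth.comp A P (MvPolynomial (Fin n) P)
  let π : MvPolynomial (Fin n) P →+* Synt.RelGCIRing P n c F := Ideal.Quotient.mk (Ideal.span (Set.range F))
  let IP := I.map (algebraMap P (Synt.RelGCIRing P n c F))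
  let σ : MvPolynomial (Fin n) P →ₐ[A] Synt.RelGCIRing P n c F ⧸ IP :=
    (Ideal.Quotient.mkₐ A IP).comp (Ideal.Quotient.mkₐ A (Ideal.span (Set.range F)))
  have hσ : Function.Surjective σ := Ideal.Quotient.mk_surjective.comp Ideal.Quotient.mk_surjective
  have hπC : π.comp (C : P →+* MvPolynomial (Fin n) P) = algebraMap P (Synt.RelGCIRing P n c F) := rfl
  let J := I.map (C : P →+* MvPolynomial (Fin n) P) ⊔ Ideal.span (Set.range F)
  have hker : RingHom.ker σ.toRingHom = J := by
    show RingHom.ker ((Ideal.Quotient.mk IP).comp π) = J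
    rw [← RingHom.comap_ker, Ideal.mk_ker]
    show (I.map (algebraMap P (Synt.RelGCIRing P n c F))).comap π = J
    rw [← hπC, ← Ideal.map_map, Ideal.comap_map_of_surjective π Ideal.Quotient.mk_surjective,
      ← RingHom.ker_eq_comap_bot, Ideal.mk_ker]
  have hJ : LocKR J := hker ▸ locKR_ker_of_smooth σ hσ hlci
  have hk : IsExactK F := TransLib.isExactK_of_isRelGCI hF
  have hkσ : Ideal.span (Set.range F) = RingHom.ker π := Ideal.mk_ker.symm
  have h1 := LocKR.descend π Ideal.Quotient.mk_surjective F hk hkσ (hkσ ▸ le_sup_right) hJ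
    fun p hp hJp x hxk hxp => ?_
  · rwa [show J.map π = IP by
      rw [Ideal.map_sup, Ideal.map_map, hπC, Ideal.map_quotient_self, sup_bot_eq]] at h1
  rw [← hkσ] at hxk ⊢
  rw [Ideal.mul_sup] at hxp
  obtain ⟨y, hy, z, hz, rfl⟩ := Submodule.mem_sup.1 hxp
  refine Ideal.add_mem _ ?_ hz
  have hyF : y ∈ Ideal.span (Set.range F) := by
    have hzF : z ∈ Ideal.span (Set.range F) :=
      (Ideal.mul_le_right : p * Ideal.span (Set.range F) ≤ Ideal.span (Set.range F)) hz
    exact (Submodule.add_mem_iff_left _ hzF).1 hxk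
  obtain ⟨a, rfl⟩ := Ideal.mem_span_range_iff_exists_fun.1 hyF
  refine Ideal.sum_mem _ fun j _ => Ideal.mul_mem_mul ?_ (Ideal.subset_span ⟨j, rfl⟩)
  have hc : c ≤ n := le_of_isRelGCI hF p (le_sup_right.trans hJp)
  let ρ : MvPolynomial (Fin n) P →+* MvPolynomial (Fin n) (P ⧸ I) := MvPolynomial.map (Ideal.Quotient.mk I)
  have hρ : RingHom.ker ρ = I.map (C : P →+* MvPolynomial (Fin n) P) := by
    rw [MvPolynomial.ker_map, Ideal.mk_ker]
  have hρs : Function.Surjective ρ := MvPolynomial.map_surjective _ Ideal.Quotient.mk_surjective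
  have hFb : IsExactK fun i => ρ (F i) :=
    TransLib.isExactK_of_isRelGCI (TransLib.isRelGCI_map (B := P ⧸ I) F hc hF)
  have hrel : ∑ i, ρ (a i) * ρ (F i) = 0 := by
    simp only [← map_mul, ← map_sum]
    rw [← RingHom.mem_ker, hρ]
    exact (Ideal.mul_le_right : p * I.map (C : P →+* MvPolynomial (Fin n) P) ≤ _) hy
  have hj := coeff_mem_of_relation hFb (fun i => ρ (a i)) hrel j
  have hrange : Set.range (fun i => ρ (F i)) = ρ '' Set.range F := by rw [← Set.range_comp]; rfl
  rw [hrange, ← Ideal.map_span] at hj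
  obtain ⟨w, hw, hwj⟩ := (Ideal.mem_map_iff_of_surjective ρ hρs).1 hj
  refine hJp ?_
  rw [show a j = (a j - w) + w by ring]
  refine Submodule.add_mem_sup ?_ hw
  rw [← hρ, RingHom.mem_ker, map_sub, hwj, sub_self]

/-- Descent along the union of two jointly surjective flat families. -/
theorem locKR_of_jointly_sum {A : Type u} [CommRing A] {ι κ : Type u} [Finite ι] [Finite κ] (D : ι → Type u)
    (E : κ → Type u) [∀ i, CommRing (D i)] [∀ i, Algebra A (D i)] [∀ i, Module.Flat A (D i)]
    [∀ i, CommRing (E i)] [∀ i, Algebra A (E i)] [∀ i, Module.Flat A (E i)] {I : Ideal A}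
    (hsurj : ∀ p : PrimeSpectrum A, (∃ i, p ∈ Set.range (PrimeSpectrum.comap (algebraMap A (D i)))) ∨
      ∃ i, p ∈ Set.range (PrimeSpectrum.comap (algebraMap A (E i))))
    (h : ∀ i, LocKR (I.map (algebraMap A (D i)))) (h' : ∀ i, LocKR (I.map (algebraMap A (E i)))) : LocKR I := by
  let inst : ∀ k, CommRing (Sum.elim D E k) :=
    Sum.rec (fun i => (inferInstance : CommRing (D i))) fun i => (inferInstance : CommRing (E i))
  let inst' : ∀ k, @Algebra A (Sum.elim D E k) _ (inst k).toSemiring :=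
    Sum.rec (fun i => (inferInstance : Algebra A (D i))) fun i => (inferInstance : Algebra A (E i))
  haveI : ∀ k, @Module.Flat A (Sum.elim D E k) _ _ (inst' k).toModule :=
    Sum.rec (fun i => (inferInstance : Module.Flat A (D i))) fun i => (inferInstance : Module.Flat A (E i))
  refine LocKR.of_jointly (Sum.elim D E) (fun p => ?_) (Sum.rec h h')
  rcases hsurj p with ⟨i, q, hq⟩ | ⟨i, q, hq⟩
  exacts [⟨Sum.inl i, q, hq⟩, ⟨Sum.inr i, q, hq⟩]

/-- A quotient of a smooth algebra which becomes lci on a syntomic cover has Koszul-regular kernel. -/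
theorem locKR_of_syntomic_cover {A P : Type u} [CommRing A] [CommRing P] [Algebra A P] [Algebra.Smooth A P]
    (I : Ideal P) (hI : I.FG) {ι : Type u} [Finite ι] (D : ι → Type u) [∀ i, CommRing (D i)]
    [∀ i, Algebra (P ⧸ I) (D i)] [∀ i, Algebra P (D i)] [∀ i, IsScalarTower P (P ⧸ I) (D i)]
    [∀ i, Algebra A (D i)] [∀ i, IsScalarTower A P (D i)]
    (hsyn : ∀ i, Synt.IsSyntomic (P ⧸ I) (D i)) (hlci : ∀ i, LCI.IsLCI A (D i))
    (hsurj : ∀ p : PrimeSpectrum (P ⧸ I), ∃ i, ∃ q : PrimeSpectrum (D i),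
      PrimeSpectrum.comap (algebraMap (P ⧸ I) (D i)) q = p) : LocKR I := by
  classical
  have hcov := fun i => TransLib.exists_lift_cover I (D i) (hsyn i)
  choose s hs hg using hcov
  choose n c F hF e using hg
  obtain ⟨t, ht⟩ := hI
  let κ := Σ i, (s i : Set (D i))
  let T : κ → Type u := fun x => Synt.RelGCIRing P (n x.1 x.2.1 x.2.2) (c x.1 x.2.1 x.2.2) (F x.1 x.2.1 x.2.2)
  haveI : ∀ k, Module.Flat P (T k) := fun x => (TransLib.isSyntomic_relGCIRing (hF x.1 x.2.1 x.2.2)).1
  refine locKR_of_jointly_sum T (fun a : (t : Set P) => Localization.Away (a : P)) ?_ ?_ ?_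
  · intro p
    by_cases hp : I ≤ p.asIdeal
    · haveI hp' : (p.asIdeal.map (Ideal.Quotient.mk I)).IsPrime :=
        Ideal.map_isPrime_of_surjective Ideal.Quotient.mk_surjective (by rwa [Ideal.mk_ker])
      obtain ⟨i, q, hq⟩ := hsurj ⟨_, hp'⟩
      obtain ⟨g, hg, hgq⟩ : ∃ g ∈ s i, g ∉ q.asIdeal := by
        by_contra! hall
        exact q.isPrime.ne_top (top_le_iff.1 (hs i ▸ Ideal.span_le.2 hall))
      obtain ⟨q', hq'⟩ : q ∈ Set.range (PrimeSpectrum.comap (algebraMap (D i) (Localization.Away g))) := by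
        rw [PrimeSpectrum.localization_away_comap_range (Localization.Away g) g]
        exact hgq
      let φ := ((e i g hg).some.symm.toAlgHom).comp (Ideal.Quotient.mkₐ P _)
      refine Or.inl ⟨⟨i, g, hg⟩, PrimeSpectrum.comap φ.toRingHom q', ?_⟩
      show PrimeSpectrum.comap (algebraMap P _) (PrimeSpectrum.comap φ.toRingHom q') = p
      ext1
      simp only [PrimeSpectrum.comap_asIdeal, Ideal.comap_comap]
      rw [show φ.toRingHom.comp (algebraMap P _) = algebraMap P (Localization.Away g) from φ.comp_algebraMap,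
        IsScalarTower.algebraMap_eq P (D i) (Localization.Away g),
        IsScalarTower.algebraMap_eq P (P ⧸ I) (D i), ← Ideal.comap_comap, ← Ideal.comap_comap]
      have h2 : q'.asIdeal.comap (algebraMap (D i) (Localization.Away g)) = q.asIdeal := congrArg PrimeSpectrum.asIdeal hq'
      have h3 : q.asIdeal.comap (algebraMap (P ⧸ I) (D i)) = p.asIdeal.map (Ideal.Quotient.mk I) :=
        congrArg PrimeSpectrum.asIdeal hq
      rw [h2, h3]
      show (p.asIdeal.map (Ideal.Quotient.mk I)).comap (Ideal.Quotient.mk I) = p.asIdeal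
      rw [Ideal.comap_map_of_surjective _ Ideal.Quotient.mk_surjective, ← RingHom.ker_eq_comap_bot,
        Ideal.mk_ker, sup_eq_left]
      exact hp
    · rw [← ht] at hp
      obtain ⟨a, ha, hap⟩ := Set.not_subset.1 fun hh => hp (Ideal.span_le.2 hh)
      obtain ⟨q', hq'⟩ : p ∈ Set.range (PrimeSpectrum.comap (algebraMap P (Localization.Away a))) := by
        rw [PrimeSpectrum.localization_away_comap_range (Localization.Away a) a]
        exact hap
      exact Or.inr ⟨⟨a, ha⟩, q', hq'⟩
  · rintro ⟨i, g, hg⟩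
    refine locKR_map_relGCI (A := A) (F i g hg) (hF i g hg) I ?_
    exact isLCI_of_algEquiv ((e i g hg).some.restrictScalars A)
      (isLCI_trans (A := A) (B := D i) (hlci i) (isLCI_away g))
  · rintro ⟨a, ha⟩
    show LocKR (I.map (algebraMap P (Localization.Away a)))
    rw [Ideal.eq_top_of_isUnit_mem (I.map (algebraMap P (Localization.Away a)))
      (Ideal.mem_map_of_mem _ (ht ▸ Ideal.subset_span ha)) (IsLocalization.Away.algebraMap_isUnit a)]
    exact fun q hq h => (hq.ne_top (top_le_iff.1 h)).elim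

end KoszAtLib

namespace KoszAtLib

open KRLib

/-- A ring map which becomes lci after a faithfully flat syntomic map is lci. -/
theorem isLCI_of_syntomic_faithfullyFlat {A B C : Type u} [CommRing A] [CommRing B] [CommRing C] [Algebra A B]
    [Algebra B C] [Algebra A C] [IsScalarTower A B C] [Algebra.FinitePresentation A B]
    [Module.FaithfullyFlat B C] (hsyn : Synt.IsSyntomic B C) (hlci : LCI.IsLCI A C) : LCI.IsLCI A B := by
  obtain ⟨n, f, hf, hker⟩ := Algebra.FinitePresentation.out (R := A) (A := B)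
  refine ⟨inferInstance, n, f, hf, (locKR_iff _).1 ?_⟩
  let I : Ideal (MvPolynomial (Fin n) A) := RingHom.ker f.toRingHom
  let e : (MvPolynomial (Fin n) A ⧸ I) ≃+* B := RingHom.quotientKerEquivOfSurjective (f := f.toRingHom) hf
  letI : Algebra (MvPolynomial (Fin n) A ⧸ I) B := e.toRingHom.toAlgebra
  letI : Algebra (MvPolynomial (Fin n) A ⧸ I) C := ((algebraMap B C).comp e.toRingHom).toAlgebra
  haveI : IsScalarTower (MvPolynomial (Fin n) A ⧸ I) B C := IsScalarTower.of_algebraMap_eq fun _ => rfl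
  letI : Algebra (MvPolynomial (Fin n) A) C := ((algebraMap B C).comp f.toRingHom).toAlgebra
  haveI : IsScalarTower (MvPolynomial (Fin n) A) (MvPolynomial (Fin n) A ⧸ I) C := ⟨fun r x y => by
    obtain ⟨x, rfl⟩ := Ideal.Quotient.mk_surjective x
    show algebraMap B C (f (r * x)) * y = algebraMap B C (f r) * (algebraMap B C (f x) * y)
    rw [map_mul, map_mul, mul_assoc]⟩
  haveI : IsScalarTower A (MvPolynomial (Fin n) A) C := IsScalarTower.of_algebraMap_eq fun a => by
    show algebraMap A C a = algebraMap B C (f (algebraMap A _ a))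
    rw [AlgHom.commutes, ← IsScalarTower.algebraMap_apply]
  haveI : Algebra.Smooth A (MvPolynomial (Fin n) A) := ⟨inferInstance, inferInstance⟩
  haveI : IsLocalization.Away (1 : MvPolynomial (Fin n) A ⧸ I) B :=
    IsLocalization.away_of_isUnit_of_bijective _ isUnit_one e.bijective
  haveI : Module.Flat (MvPolynomial (Fin n) A ⧸ I) B := IsLocalization.flat B (Submonoid.powers 1)
  haveI : Module.Flat (MvPolynomial (Fin n) A ⧸ I) C := Module.Flat.trans _ B C
  have hsyn' : Synt.IsSyntomic (MvPolynomial (Fin n) A ⧸ I) C :=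
    TransLib.isSyntomic_of_flat_isLCI inferInstance
      (isLCI_trans (A := MvPolynomial (Fin n) A ⧸ I) (B := B) (isLCI_away 1) (TransLib.isLCI_of_isSyntomic hsyn))
  refine locKR_of_syntomic_cover (A := A) I hker (fun _ : PUnit.{u+1} => C) (fun _ => hsyn') (fun _ => hlci) ?_
  intro p
  obtain ⟨q, hq⟩ := PrimeSpectrum.comap_surjective_of_faithfullyFlat (B := C)
    (PrimeSpectrum.comap e.symm.toRingHom p)
  refine ⟨PUnit.unit, q, ?_⟩
  show PrimeSpectrum.comap ((algebraMap B C).comp e.toRingHom) q = p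
  rw [PrimeSpectrum.comap_comp_apply, hq, ← PrimeSpectrum.comap_comp_apply,
    show e.symm.toRingHom.comp e.toRingHom = RingHom.id _ from RingHom.ext e.symm_apply_apply,
    PrimeSpectrum.comap_id]

end KoszAtLib
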