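import Groth.Agent.KoszAtLib.Basic
import Groth.Agent.KoszAtLib.Precomp
import Groth.Agent.FlatLib.FppfSource
import Groth.Agent.S0114
import Mathlib

/-!
# lci morphisms descend along syntomic covers of the source
-/

set_option autoImplicit false

universe u

open CategoryTheory CategoryTheory.Limits AlgebraicGeometry

namespace KoszAtLib

open KRLib

theorem lfp_of_lciMor {X S : Scheme.{u}} (f : X ⟶ S) (h : LCIMor f) : LocallyOfFinitePresentation f := by
  rw [HasRingHomProperty.iff_appLE (P := @LocallyOfFinitePresentation)]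
  intro V U e
  have hl := HasRingHomProperty.appLE (P := LCIMor) f h V U e
  letI := (f.appLE V.1 U.1 e).hom.toAlgebra
  obtain ⟨-, n, α, hα, hk⟩ := (hl : LCI.IsLCI Γ(S, V.1) Γ(X, U.1))
  exact Algebra.FinitePresentation.of_surjective hα ((locKR_iff _).2 hk).fg

theorem syntMor_iff {X S : Scheme.{u}} (f : X ⟶ S) : TransLib.SyntMor f ↔ Flat f ∧ LCIMor f := by
  rw [← TransLib.isSyntomicMor_iff, isSyntomicMor_iff_flat_lciMor]

theorem lciMor_of_syntomic_precomp {U' U Y : Scheme.{u}} (g : U' ⟶ U) (hg : TransLib.SyntMor g) [Surjective g]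
    (f : U ⟶ Y) (h : LCIMor (g ≫ f)) : LCIMor f := by
  haveI : Flat g := ((syntMor_iff g).1 hg).1
  haveI : LocallyOfFinitePresentation g := lfp_of_lciMor g ((syntMor_iff g).1 hg).2
  haveI : LocallyOfFinitePresentation (g ≫ f) := lfp_of_lciMor _ h
  haveI : LocallyOfFinitePresentation f := Groth.Agent.S0114.result g f
  have key : ∀ {X Y' X' : Scheme.{u}} [IsAffine X] [IsAffine Y'] (f' : X ⟶ Y') (g' : X' ⟶ X)
      [LocallyOfFinitePresentation f'] [Surjective g'], TransLib.SyntMor g' → LCIMor (g' ≫ f') → LCIMor f' := by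
    intro X Y' X' _ _ f' g' _ _ hs hh
    haveI : Flat g' := ((syntMor_iff g').1 hs).1
    haveI : LocallyOfFinitePresentation g' := lfp_of_lciMor g' ((syntMor_iff g').1 hs).2
    obtain ⟨E, k, _, _, _, hk, hloc⟩ := FlatLib.exists_affine_fppf_surjective g'
    have hE : LCIMor (k ≫ g' ≫ f') := hloc LCIMor _ hh
    have hks : TransLib.SyntMor (k ≫ g') := hloc TransLib.SyntMor _ hs
    rw [← Category.assoc, HasRingHomProperty.iff_of_isAffine (P := LCIMor), Scheme.Hom.comp_appTop,
      CommRingCat.hom_comp] at hE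
    rw [HasRingHomProperty.iff_of_isAffine (P := LCIMor)]
    rw [HasRingHomProperty.iff_of_isAffine (P := TransLib.SyntMor)] at hks
    have hflat : (k ≫ g').appTop.hom.FaithfullyFlat := by
      rw [RingHom.FaithfullyFlat.iff_flat_and_comap_surjective]
      refine ⟨(HasRingHomProperty.iff_of_isAffine (P := @Flat)).1 inferInstance, ?_⟩
      have : Surjective (Spec.map (k ≫ g').appTop) := by
        have e1 := Scheme.isoSpec_hom_naturality (k ≫ g')
        have : Surjective (E.isoSpec.hom ≫ Spec.map (k ≫ g').appTop) := by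
          rw [e1]; infer_instance
        exact .of_comp E.isoSpec.hom _
      exact (Spec.map (k ≫ g').appTop).surjective
    algebraize [f'.appTop.hom, (k ≫ g').appTop.hom, (k ≫ g').appTop.hom.comp f'.appTop.hom]
    haveI : Algebra.FinitePresentation Γ(Y', ⊤) Γ(X, ⊤) :=
      (HasRingHomProperty.iff_of_isAffine (P := @LocallyOfFinitePresentation) (f := f')).1 inferInstance
    haveI : Module.FaithfullyFlat Γ(X, ⊤) Γ(E, ⊤) := hflat
    exact isLCI_of_syntomic_faithfullyFlat (A := Γ(Y', ⊤)) (C := Γ(E, ⊤)) hks hE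
  rw [IsZariskiLocalAtTarget.iff_of_openCover (P := LCIMor) Y.affineCover]
  intro i
  let c := Y.affineCover.f i
  change LCIMor (pullback.snd f c)
  let gA := pullback.snd g (pullback.fst f c)
  have sq : IsPullback (pullback.fst g (pullback.fst f c)) (gA ≫ pullback.snd f c) (g ≫ f) c :=
    (IsPullback.of_hasPullback g (pullback.fst f c)).paste_vert (IsPullback.of_hasPullback f c)
  have hA : LCIMor (gA ≫ pullback.snd f c) := IsZariskiLocalAtTarget.of_isPullback sq h
  have hgA : TransLib.SyntMor gA := MorphismProperty.pullback_snd (P := TransLib.SyntMor) _ _ hg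
  rw [IsZariskiLocalAtSource.iff_of_openCover (P := LCIMor) (pullback f c).affineCover]
  intro j
  refine key _ (pullback.snd gA ((pullback f c).affineCover.f j))
    (MorphismProperty.pullback_snd (P := TransLib.SyntMor) _ _ hgA) ?_
  rw [← pullback.condition_assoc]
  exact IsZariskiLocalAtSource.comp hA _

end KoszAtLib
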