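import Groth.Agent.KRLib.Pres
import Groth.Agent.KRLib.Descent
import Groth.Agent.TransLib.SyntLCI
import Groth.Agent.TransLib.SyntMor
import Mathlib

/-!
# Local complete intersection ring maps
-/

set_option autoImplicit false

universe u

open TensorProduct MvPolynomial

namespace KoszAtLib

open KRLib

theorem isLCI_of_surjective {Q B : Type u} [CommRing Q] [CommRing B] [Algebra Q B]
    (hs : Function.Surjective (algebraMap Q B)) (h : LocKR (RingHom.ker (algebraMap Q B))) : LCI.IsLCI Q B := by
  let φ : MvPolynomial (Fin 0) Q →ₐ[Q] B := MvPolynomial.aeval Fin.elim0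
  have hφC : ∀ q, φ (C q) = algebraMap Q B q := fun q => MvPolynomial.aeval_C _ q
  have hφ : Function.Surjective φ := fun b => by
    obtain ⟨q, rfl⟩ := hs b
    exact ⟨C q, hφC q⟩
  refine ⟨Algebra.FiniteType.of_surjective (Algebra.ofId Q B) hs, 0, φ, hφ, (locKR_iff _).1 ?_⟩
  have h1 := h.map_bijective (C : Q →+* MvPolynomial (Fin 0) Q)
    ⟨C_injective _ _, fun p => ⟨coeff 0 p, (MvPolynomial.eq_C_of_isEmpty p).symm⟩⟩
  convert h1 using 1
  refine le_antisymm (fun p hp => ?_) (Ideal.map_le_iff_le_comap.2 fun q hq => ?_)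
  · rw [MvPolynomial.eq_C_of_isEmpty p] at hp ⊢
    refine Ideal.mem_map_of_mem _ ?_
    rw [RingHom.mem_ker, ← hφC]
    exact hp
  · show φ (C q) = 0
    rw [hφC]; exact hq

theorem isLCI_of_smooth (A B : Type u) [CommRing A] [CommRing B] [Algebra A B] [Algebra.Smooth A B] :
    LCI.IsLCI A B :=
  TransLib.isLCI_of_isSyntomic (TransLib.isSyntomic_of_smooth A B)

theorem isLCI_away {A B : Type u} [CommRing A] [CommRing B] [Algebra A B] (r : A) [IsLocalization.Away r B] :
    LCI.IsLCI A B :=
  haveI : Algebra.Smooth A B := Algebra.Smooth.of_isLocalization_Away r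
  isLCI_of_smooth A B

/-- Descent of Koszul-regularity to a quotient which is formally smooth over the base, global generators. -/
theorem locKR_map_of_formallySmooth {A P Q : Type u} [CommRing A] [CommRing P] [CommRing Q] [Algebra A P]
    [Algebra A Q] [Algebra.FormallySmooth A Q] (π : P →ₐ[A] Q) (hπ : Function.Surjective π)
    (hK : KRGen (RingHom.ker π.toRingHom)) {J : Ideal P} (hKJ : RingHom.ker π.toRingHom ≤ J) (hJ : LocKR J) :
    LocKR (J.map π.toRingHom) := by
  obtain ⟨m, k, hk, hkK⟩ := hK
  let K : Ideal P := RingHom.ker π.toRingHom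
  refine LocKR.descend π.toRingHom hπ k hk hkK hKJ hJ fun p hp hJp x hxK hxpJ => ?_
  let g : P ⧸ K ^ 2 →ₐ[A] Q := Ideal.Quotient.liftₐ (K ^ 2) π fun a ha =>
    (Ideal.pow_le_self two_ne_zero ha : a ∈ K)
  have hg : Function.Surjective g := fun q => by
    obtain ⟨a, rfl⟩ := hπ q
    exact ⟨Ideal.Quotient.mk _ a, rfl⟩
  have hnil : IsNilpotent (RingHom.ker g.toRingHom) := by
    refine ⟨2, le_antisymm ?_ bot_le⟩
    rw [sq (RingHom.ker g.toRingHom), Ideal.mul_le]
    intro a ha b hb
    obtain ⟨a, rfl⟩ := Ideal.Quotient.mk_surjective a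
    obtain ⟨b, rfl⟩ := Ideal.Quotient.mk_surjective b
    show Ideal.Quotient.mk (K ^ 2) a * Ideal.Quotient.mk (K ^ 2) b = 0
    rw [← map_mul, Ideal.Quotient.eq_zero_iff_mem, pow_two]
    exact Ideal.mul_mem_mul (ha : a ∈ K) (hb : b ∈ K)
  let s : Q →ₐ[A] P ⧸ K ^ 2 := Algebra.FormallySmooth.liftOfSurjective (AlgHom.id A Q) g hg hnil
  have hs : ∀ q, g (s q) = q := fun q =>
    Algebra.FormallySmooth.liftOfSurjective_apply (AlgHom.id A Q) g hg hnil q
  let mk := Ideal.Quotient.mk (K ^ 2)
  let δ : P → P ⧸ K ^ 2 := fun a => mk a - s (π a)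
  have hδK : ∀ a, δ a ∈ K.map mk := fun a => by
    obtain ⟨c, hc⟩ := Ideal.Quotient.mk_surjective (δ a)
    rw [← hc]
    refine Ideal.mem_map_of_mem _ ?_
    show π c = 0
    have h1 : g (mk c) = g (δ a) := congrArg g hc
    rw [show g (δ a) = π a - g (s (π a)) from map_sub g _ _, hs, sub_self] at h1
    exact h1
  have hmem : ∀ v ∈ p, s (π v) ∈ p.map mk := fun v hv => by
    obtain ⟨c, hc⟩ := Ideal.Quotient.mk_surjective (s (π v))
    rw [← hc]
    refine Ideal.mem_map_of_mem _ ?_
    have h1 : π c = π v := (congrArg g hc).trans (hs (π v))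
    have h2 : c - v ∈ p := hJp (hKJ (show π (c - v) = 0 by rw [map_sub, h1, sub_self]))
    exact (Submodule.sub_mem_iff_left _ hv).1 h2
  have hmain : ∀ z ∈ p * J, δ z ∈ (p * K).map mk := by
    intro z hz
    induction hz using Submodule.mul_induction_on' with
    | mem_mul_mem u hu v hv =>
      have e : δ (u * v) = mk u * δ v + s (π v) * δ u := by
        simp only [δ, map_mul]; ring
      rw [e, Ideal.map_mul]
      exact add_mem (Ideal.mul_mem_mul (Ideal.mem_map_of_mem _ hu) (hδK v))
        (Ideal.mul_mem_mul (hmem v (hJp hv)) (hδK u))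
    | add a _ b _ ha hb =>
      have e : δ (a + b) = δ a + δ b := by simp only [δ, map_add]; ring
      rw [e]; exact add_mem ha hb
  have hx : mk x ∈ (p * K).map mk := by
    have h1 := hmain x hxpJ
    rwa [show δ x = mk x by simp [δ, show π x = 0 from hxK]] at h1
  rw [Ideal.mem_quotient_iff_mem_sup] at hx
  refine (sup_le le_rfl ?_ : p * K ⊔ K ^ 2 ≤ p * K) hx
  rw [pow_two]
  exact Ideal.mul_mono_left (hKJ.trans hJp)

/-- Descent of Koszul-regularity to a quotient which is formally smooth over the base. -/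
theorem locKR_map_of_formallySmooth' {A P Q : Type u} [CommRing A] [CommRing P] [CommRing Q] [Algebra A P]
    [Algebra A Q] [Algebra.FormallySmooth A Q] (π : P →ₐ[A] Q) (hπ : Function.Surjective π)
    (hK : LocKR (RingHom.ker π.toRingHom)) {J : Ideal P} (hKJ : RingHom.ker π.toRingHom ≤ J) (hJ : LocKR J) :
    LocKR (J.map π.toRingHom) := by
  refine locKR_of_cover fun q hq hJq => ?_
  let p := q.comap π.toRingHom
  have hKp : RingHom.ker π.toRingHom ≤ p := fun a ha => by
    show π.toRingHom a ∈ q
    rw [RingHom.mem_ker.1 ha]; exact q.zero_mem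
  obtain ⟨u, hu, hgen⟩ := hK p inferInstance hKp
  let Pu := Localization.Away u
  let Qu := Localization.Away (π.toRingHom u)
  refine ⟨π.toRingHom u, hu, ?_⟩
  let σ := IsLocalization.Away.map Pu Qu π.toRingHom u
  let σA : Pu →ₐ[A] Qu :=
    { σ with
      commutes' := fun a => by
        show σ (algebraMap A Pu a) = _
        rw [IsScalarTower.algebraMap_apply A P Pu, ← RingHom.comp_apply σ, awayMap_comp,
          RingHom.comp_apply, show π.toRingHom (algebraMap A P a) = algebraMap A Q a from π.commutes a,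
          ← IsScalarTower.algebraMap_apply] }
  haveI : Algebra.FormallySmooth Q Qu :=
    Algebra.FormallySmooth.of_isLocalization (Submonoid.powers (π.toRingHom u))
  haveI : Algebra.FormallySmooth A Qu := Algebra.FormallySmooth.comp A Q Qu
  have hker : RingHom.ker σA.toRingHom = (RingHom.ker π.toRingHom).map (algebraMap P Pu) :=
    ker_awayMap π.toRingHom u Pu Qu
  have h := locKR_map_of_formallySmooth σA (awayMap_surjective π.toRingHom u Pu Qu hπ)
    (hker ▸ hgen) (hker ▸ Ideal.map_mono hKJ) (J := J.map (algebraMap P Pu)) hJ.map_flat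
  rwa [Ideal.map_map, show σA.toRingHom.comp (algebraMap P Pu) = (algebraMap Q Qu).comp π.toRingHom from
    awayMap_comp π.toRingHom u Pu Qu, ← Ideal.map_map] at h

/-- In a lci algebra, the kernel of a presentation by a smooth algebra is Koszul-regular. -/
theorem locKR_ker_of_smooth {A Q B : Type u} [CommRing A] [CommRing Q] [CommRing B] [Algebra A Q] [Algebra A B]
    [Algebra.Smooth A Q] (σ : Q →ₐ[A] B) (hσ : Function.Surjective σ) (h : LCI.IsLCI A B) :
    LocKR (RingHom.ker σ.toRingHom) := by
  obtain ⟨-, n, π, hπ, hK⟩ := isLCI_of_smooth A Q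
  obtain ⟨-, m, β, hβ, hB⟩ := h
  have hJ := locKR_ker_of_other (σ.comp π) (hσ.comp hπ) β hβ ((locKR_iff _).2 hB)
  have h1 := locKR_map_of_formallySmooth' π hπ ((locKR_iff _).2 hK)
    (fun a ha => by show σ (π a) = 0; rw [show π a = 0 from ha, map_zero]) hJ
  rw [show RingHom.ker (σ.comp π).toRingHom = (RingHom.ker σ.toRingHom).comap π.toRingHom from
    (RingHom.comap_ker _ _).symm, Ideal.map_comap_of_surjective π.toRingHom hπ] at h1
  exact h1

/-- Koszul-regularity of the kernel of a surjection persists after flat base change. -/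
theorem locKR_ker_map {R R' P B : Type u} [CommRing R] [CommRing R'] [CommRing P] [CommRing B] [Algebra R R']
    [Algebra R P] [Algebra R B] [Module.Flat R R'] (α : P →ₐ[R] B) (hα : Function.Surjective α)
    (h : LocKR (RingHom.ker α.toRingHom)) :
    LocKR (RingHom.ker (Algebra.TensorProduct.map (AlgHom.id R' R') α).toRingHom) := by
  haveI : Module.Flat P (P ⊗[R] R') := inferInstance
  let c : P ⊗[R] R' →+* R' ⊗[R] P := (Algebra.TensorProduct.comm R P R').toRingEquiv.toRingHom
  have hc : Function.Bijective c := (Algebra.TensorProduct.comm R P R').bijective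
  have h1 := (h.map_flat (R := P ⊗[R] R')).map_bijective c hc
  rw [Ideal.map_map] at h1
  have hker : RingHom.ker (Algebra.TensorProduct.map (AlgHom.id R R') α) =
      (RingHom.ker α.toRingHom).map (Algebra.TensorProduct.includeRight : P →ₐ[R] R' ⊗[R] P).toRingHom :=
    Algebra.TensorProduct.lTensor_ker α hα
  have hcomp : c.comp (algebraMap P (P ⊗[R] R')) =
      (Algebra.TensorProduct.includeRight : P →ₐ[R] R' ⊗[R] P).toRingHom := RingHom.ext fun _ => rfl
  rw [hcomp, ← hker] at h1
  exact h1

theorem locKR_ker_comp_equiv {P P' B : Type u} [CommRing P] [CommRing P'] [CommRing B] (τ : P' →+* B)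
    (e : P ≃+* P') (h : LocKR (RingHom.ker τ)) : LocKR (RingHom.ker (τ.comp e.toRingHom)) := by
  rw [← RingHom.comap_ker]
  have h2 := h.map_bijective e.symm.toRingHom e.symm.bijective
  convert h2 using 1
  exact (Ideal.map_symm e).symm

/-- lci is stable under flat base change. -/
theorem isLCI_baseChange {R R' S : Type u} [CommRing R] [CommRing R'] [CommRing S] [Algebra R R'] [Algebra R S]
    [Module.Flat R R'] (h : LCI.IsLCI R S) : LCI.IsLCI R' (R' ⊗[R] S) := by
  obtain ⟨hft, n, α, hα, hk⟩ := h
  let E : MvPolynomial (Fin n) R' ≃ₐ[R'] R' ⊗[R] MvPolynomial (Fin n) R :=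
    (MvPolynomial.algebraTensorAlgEquiv R R').symm
  have h1 := locKR_ker_map (R' := R') α hα ((locKR_iff _).2 hk)
  let φ : MvPolynomial (Fin n) R' →ₐ[R'] R' ⊗[R] S := (Algebra.TensorProduct.map (AlgHom.id R' R') α).comp E.toAlgHom
  have hs : Function.Surjective φ :=
    (Algebra.TensorProduct.map_surjective (AlgHom.id R' R') α Function.surjective_id hα).comp E.surjective
  refine ⟨Algebra.FiniteType.of_surjective φ hs, n, φ, hs, (locKR_iff _).1 ?_⟩
  exact locKR_ker_comp_equiv (Algebra.TensorProduct.map (AlgHom.id R' R') α).toRingHom E.toRingEquiv h1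

/-- lci ring maps. -/
def LCIHom {R S : Type u} [CommRing R] [CommRing S] (f : R →+* S) : Prop :=
  letI := f.toAlgebra
  LCI.IsLCI R S

theorem lciHom_algebraMap {R S : Type u} [CommRing R] [CommRing S] [Algebra R S] :
    LCIHom (algebraMap R S) ↔ LCI.IsLCI R S := by
  rw [LCIHom, toAlgebra_algebraMap]

theorem LCIHom.comp {R S T : Type u} [CommRing R] [CommRing S] [CommRing T] {f : R →+* S} {g : S →+* T}
    (hf : LCIHom f) (hg : LCIHom g) : LCIHom (g.comp f) := by
  letI := f.toAlgebra
  letI := g.toAlgebra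
  letI : Algebra R T := (g.comp f).toAlgebra
  haveI : IsScalarTower R S T := IsScalarTower.of_algebraMap_eq fun _ => rfl
  exact isLCI_trans (C' := T) hf hg

theorem lciHom_ofLocalizationSpanTarget : RingHom.OfLocalizationSpanTarget @LCIHom := by
  intro R S _ _ f s hs h
  letI := f.toAlgebra
  refine isLCI_of_span_eq_top s hs fun g hg => ?_
  have h1 := h ⟨g, hg⟩
  rw [show (algebraMap S (Localization.Away g)).comp f = algebraMap R (Localization.Away g) from rfl] at h1
  exact lciHom_algebraMap.1 h1

theorem lciHom_stableUnderCompositionSource : RingHom.StableUnderCompositionWithLocalizationAwaySource @LCIHom := by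
  intro R S T _ _ _ _ r _ f h
  exact LCIHom.comp (lciHom_algebraMap.2 (isLCI_away r)) h

theorem lciHom_stableUnderCompositionTarget : RingHom.StableUnderCompositionWithLocalizationAwayTarget @LCIHom := by
  intro R S T _ _ _ _ s _ f h
  exact LCIHom.comp h (lciHom_algebraMap.2 (isLCI_away s))

theorem lciHom_localizationAwayPreserves : RingHom.LocalizationAwayPreserves @LCIHom := by
  intro R S _ _ f r R' S' _ _ _ _ _ _ h
  letI := f.toAlgebra
  letI : Algebra R S' := ((algebraMap S S').comp f).toAlgebra
  have : IsScalarTower R S S' := IsScalarTower.of_algebraMap_eq fun _ => rfl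
  letI : Algebra R' S' := (IsLocalization.Away.map R' S' f r).toAlgebra
  have : IsScalarTower R R' S' := IsScalarTower.of_algebraMap_eq fun x => by
    show algebraMap R S' x = IsLocalization.Away.map R' S' f r (algebraMap R R' x)
    rw [IsLocalization.Away.map, IsLocalization.map_eq]
    rfl
  have h1 : LCI.IsLCI R S' := isLCI_trans (A := R) (B := S) h (isLCI_away (f r))
  have : Module.Flat R R' := IsLocalization.flat R' (Submonoid.powers r)
  have : SMulCommClass R' R' S' := inferInstance
  have : TensorProduct.CompatibleSMul R R' R' S' :=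
    IsLocalization.tensorProduct_compatibleSMul (Submonoid.powers r) R' R' S'
  exact isLCI_of_algEquiv
    ((Algebra.TensorProduct.equivOfCompatibleSMul R R' R' R' S').symm.trans (Algebra.TensorProduct.lid R' S'))
    (isLCI_baseChange h1)

theorem lciHom_isLocal : RingHom.PropertyIsLocal @LCIHom :=
  ⟨lciHom_localizationAwayPreserves, lciHom_ofLocalizationSpanTarget,
    lciHom_ofLocalizationSpanTarget.ofLocalizationSpan lciHom_stableUnderCompositionSource,
    lciHom_stableUnderCompositionTarget⟩

end KoszAtLib
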