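import Groth.Agent.KoszAtLib.Basic
import Mathlib

/-!
# Cancellation for lci morphisms
-/

set_option autoImplicit false

universe u

open CategoryTheory CategoryTheory.Limits AlgebraicGeometry

namespace KoszAtLib

/-- If `f ≫ g` is lci and `g` is smooth then `f` is lci. -/
theorem lciMor_of_comp_smooth {X Y S : Scheme.{u}} (f : X ⟶ Y) (g : Y ⟶ S) [Smooth g] (h : LCIMor (f ≫ g)) :
    LCIMor f := by
  let γ : X ⟶ pullback (f ≫ g) g := pullback.lift (𝟙 X) f (by rw [Category.id_comp])
  have hfst : γ ≫ pullback.fst (f ≫ g) g = 𝟙 X := pullback.lift_fst _ _ _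
  haveI : IsImmersion (γ ≫ pullback.fst (f ≫ g) g) := by rw [hfst]; infer_instance
  haveI : IsImmersion γ := IsImmersion.of_comp γ (pullback.fst (f ≫ g) g)
  have hγ : RegImm.IsRegularImmersion .koszul γ := by
    refine koszul_of_immersion_smooth γ (pullback.fst (f ≫ g) g) ?_
    rw [hfst]
    exact lciMor_of_smooth (𝟙 X)
  have hsnd : LCIMor (pullback.snd (f ≫ g) g) :=
    lciMor_baseChange (f ≫ g) g (pullback.snd (f ≫ g) g) (pullback.fst (f ≫ g) g) (IsPullback.of_hasPullback _ _) h
  have := MorphismProperty.comp_mem LCIMor γ _ (lciMor_of_regularImmersion γ hγ) hsnd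
  rwa [show γ ≫ pullback.snd (f ≫ g) g = f from pullback.lift_snd _ _ _] at this

end KoszAtLib
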